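import Mathlib

/-!
A flat algebra over a ring with a nilpotent ideal is formally smooth as soon as its fibre is.
-/

namespace Groth.Agent.CAlgFS

universe u v w

section FlatQuot

variable {R : Type v} [CommRing R] {S : Type u} [CommRing S] [Algebra R S]

/-- If `S` is flat over `R`, an element of `(ker π) ∩ I P` lies in `I (ker π)`. -/
theorem ker_inf_map_le [Module.Flat R S] {P : Type w} [CommRing P] [Algebra R P] (π : P →ₐ[R] S)
    (hπ : Function.Surjective π) (I : Ideal R) :
    RingHom.ker π ⊓ I.map (algebraMap R P) ≤ I.map (algebraMap R P) * RingHom.ker π := by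
  classical
  intro x hx
  obtain ⟨hxJ, hxI⟩ := Submodule.mem_inf.1 hx
  obtain ⟨n, q, g, hg⟩ := Submodule.mem_span_set'.1 hxI
  have hc : ∀ i, ∃ c : I, algebraMap R P c = (g i : P) := fun i =>
    let ⟨a, ha, h⟩ := (g i).2; ⟨⟨a, ha⟩, h⟩
  choose c hc using hc
  have hqsum : x = ∑ i, algebraMap R P (c i) * q i := by
    rw [← hg]
    exact Finset.sum_congr rfl fun i _ => by rw [smul_eq_mul, hc, mul_comm]
  have h0 : ∑ i, (c i : R) • π (q i) = 0 := by
    rw [RingHom.mem_ker, hqsum, map_sum] at hxJ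
    rw [← hxJ]
    exact Finset.sum_congr rfl fun i _ => by rw [map_mul, π.commutes, Algebra.smul_def]
  obtain ⟨k, a, y, hy, ha⟩ := Module.Flat.isTrivialRelation_of_sum_smul_eq_zero
    (f := fun i => (c i : R)) (x := fun i => π (q i)) h0
  choose y' hy' using fun j => hπ (y j)
  have hmem : ∀ i, q i - ∑ j, algebraMap R P (a i j) * y' j ∈ RingHom.ker π := fun i => by
    rw [RingHom.mem_ker, map_sub, map_sum, sub_eq_zero, show π (q i) = _ from hy i]
    exact Finset.sum_congr rfl fun j _ => by rw [map_mul, π.commutes, hy', Algebra.smul_def]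
  have hx' : x = ∑ i, algebraMap R P (c i) * (q i - ∑ j, algebraMap R P (a i j) * y' j) := by
    simp only [mul_sub, Finset.sum_sub_distrib, Finset.mul_sum]
    rw [hqsum, Finset.sum_comm (f := fun i j => algebraMap R P (c i) * (algebraMap R P (a i j) * y' j))]
    have : ∀ j, ∑ i, algebraMap R P (c i) * (algebraMap R P (a i j) * y' j) = 0 := fun j => by
      simp only [← mul_assoc, ← map_mul, ← Finset.sum_mul, ← map_sum, ha j, map_zero, zero_mul]
    simp [this]
  rw [hx']
  exact Ideal.sum_mem _ fun i _ => Ideal.mul_mem_mul (Ideal.mem_map_of_mem _ (c i).2) (hmem i)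

end FlatQuot

theorem formallySmooth_of_flat_of_fibre {R : Type v} [CommRing R] {S : Type max u v} [CommRing S]
    [Algebra R S] [Module.Flat R S] (I : Ideal R) (hI : IsNilpotent I)
    (hfib : ∀ (T : Type max u v) [CommRing T] (χ : R →+* T), I ≤ RingHom.ker χ → ∀ (K : Ideal T),
      K ^ 2 = ⊥ → ∀ v : S →+* T ⧸ K, v.comp (algebraMap R S) = (Ideal.Quotient.mk K).comp χ →
      ∃ w : S →+* T, (Ideal.Quotient.mk K).comp w = v ∧ w.comp (algebraMap R S) = χ) :
    Algebra.FormallySmooth R S := by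
  let P := MvPolynomial S R
  let π : P →ₐ[R] S := MvPolynomial.aeval id
  have hπ : Function.Surjective π := fun s => ⟨MvPolynomial.X s, MvPolynomial.aeval_X _ _⟩
  let J := RingHom.ker π
  let IP := I.map (algebraMap R P)
  let Q := J ^ 2 ⊔ IP
  let K : Ideal (P ⧸ Q) := J.map (Ideal.Quotient.mk Q)
  have hK : K ^ 2 = ⊥ := by
    rw [← Ideal.map_pow, Ideal.map_eq_bot_iff_le_ker, Ideal.mk_ker]
    exact le_sup_left
  let e : S →+* (P ⧸ Q) ⧸ K := RingHom.liftOfSurjective π.toRingHom hπ
    ⟨(Ideal.Quotient.mk K).comp (Ideal.Quotient.mk Q), fun x hx => by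
      rw [RingHom.mem_ker, RingHom.comp_apply, Ideal.Quotient.eq_zero_iff_mem]
      exact Ideal.mem_map_of_mem _ hx⟩
  have he : ∀ p, e (π p) = Ideal.Quotient.mk K (Ideal.Quotient.mk Q p) := fun p =>
    RingHom.liftOfRightInverse_comp_apply _ _ _ _ p
  obtain ⟨w, hw, hw2⟩ := hfib (P ⧸ Q) ((Ideal.Quotient.mk Q).comp (algebraMap R P)) (fun a ha => by
      rw [RingHom.mem_ker, RingHom.comp_apply, Ideal.Quotient.eq_zero_iff_mem]
      exact Ideal.mem_sup_right (Ideal.mem_map_of_mem _ ha))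
    K hK e (RingHom.ext fun r => by
      rw [RingHom.comp_apply, ← π.commutes, he]; rfl)
  -- choose the endomorphism
  have hm : ∀ s : S, ∃ m : P, m - MvPolynomial.X s ∈ J ∧ Ideal.Quotient.mk Q m = w s := by
    intro s
    obtain ⟨m, hm⟩ := Ideal.Quotient.mk_surjective (w s)
    have h1 : m - MvPolynomial.X s ∈ J ⊔ Q := by
      have h := RingHom.congr_fun hw s
      rw [RingHom.comp_apply, ← hm, ← show π (MvPolynomial.X s) = s from MvPolynomial.aeval_X _ _,
        he, Ideal.Quotient.eq, ← map_sub, ← Ideal.mem_comap,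
        Ideal.comap_map_of_surjective' _ Ideal.Quotient.mk_surjective, Ideal.mk_ker] at h
      exact h
    obtain ⟨a, ha, b, hb, hab⟩ := Submodule.mem_sup.1 h1
    refine ⟨m - b, ?_, ?_⟩
    · rwa [show m - b - MvPolynomial.X s = a by rw [sub_right_comm, ← hab, add_sub_cancel_right]]
    · rw [map_sub, hm, Ideal.Quotient.eq_zero_iff_mem.2 hb, sub_zero]
  choose m hm₁ hm₂ using hm
  let τ : P →ₐ[R] P := MvPolynomial.aeval m
  have hπτ : π.comp τ = π := MvPolynomial.algHom_ext fun s => by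
    have h := hm₁ s
    rw [RingHom.mem_ker, map_sub, sub_eq_zero] at h
    simpa [τ] using h
  have hτQ : (Ideal.Quotient.mkₐ R Q).toRingHom.comp τ.toRingHom = w.comp π.toRingHom := by
    refine MvPolynomial.ringHom_ext (fun r => ?_) fun s => ?_
    · simp only [RingHom.comp_apply, AlgHom.toRingHom_eq_coe, RingHom.coe_coe]
      rw [← MvPolynomial.algebraMap_eq, τ.commutes, π.commutes]
      exact (RingHom.congr_fun hw2 r).symm
    · simp only [RingHom.comp_apply, AlgHom.toRingHom_eq_coe, RingHom.coe_coe]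
      rw [MvPolynomial.aeval_X, MvPolynomial.aeval_X]
      exact hm₂ s
  have hJ : J.map τ ≤ J ^ 2 ⊔ IP * J := by
    rw [Ideal.map_le_iff_le_comap]
    intro x hx
    have h1 : τ x ∈ Q := by
      rw [← Ideal.Quotient.eq_zero_iff_mem]
      have h := RingHom.congr_fun hτQ x
      simp only [RingHom.comp_apply, AlgHom.toRingHom_eq_coe, RingHom.coe_coe] at h
      rw [show π x = 0 from hx, map_zero] at h
      exact h
    have h2 : τ x ∈ J := by
      rw [RingHom.mem_ker, ← AlgHom.comp_apply, hπτ]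
      exact hx
    obtain ⟨a, ha, b, hb, hab⟩ := Submodule.mem_sup.1 h1
    have hbJ : b ∈ J := by
      rw [eq_sub_of_add_eq' hab]
      exact sub_mem h2 (Ideal.pow_le_self two_ne_zero ha)
    rw [Ideal.mem_comap, ← hab]
    exact Submodule.add_mem_sup ha (ker_inf_map_le π hπ I ⟨hbJ, hb⟩)
  have hτIP : IP.map τ ≤ IP := by
    show (I.map (algebraMap R P)).map τ.toRingHom ≤ _
    rw [Ideal.map_map]
    exact le_of_eq (congrArg (fun f => I.map f) τ.comp_algebraMap)
  obtain ⟨n, hn⟩ := hI
  have hiter : ∀ k : ℕ, J.map (τ ^ k) ≤ J ^ 2 ⊔ IP ^ k * J := by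
    intro k
    induction k with
    | zero =>
      rw [pow_zero, pow_zero, one_mul]
      refine le_trans (le_of_eq ?_) le_sup_right
      exact Ideal.map_id J
    | succ k ih =>
      rw [pow_succ', show J.map (τ * τ ^ k) = (J.map (τ ^ k)).map τ from (Ideal.map_map _ _).symm]
      refine (Ideal.map_mono ih).trans ?_
      rw [Ideal.map_sup, Ideal.map_pow, Ideal.map_mul, Ideal.map_pow]
      refine sup_le ?_ ?_
      · refine le_trans (pow_le_pow_left' (hJ.trans ?_) 2) le_sup_left
        exact sup_le (Ideal.pow_le_self two_ne_zero) Ideal.mul_le_right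
      · refine (Ideal.mul_mono (pow_le_pow_left' hτIP k) hJ).trans ?_
        rw [Ideal.mul_sup, ← mul_assoc, ← pow_succ]
        exact sup_le_sup Ideal.mul_le_right le_rfl
  have hIPn : IP ^ n = ⊥ := by rw [← Ideal.map_pow, hn, Submodule.zero_eq_bot, Ideal.map_bot]
  -- the section
  let f : P →ₐ[R] P ⧸ J ^ 2 := (Ideal.Quotient.mkₐ R (J ^ 2)).comp (τ ^ n)
  have hf : ∀ x, π x = 0 → f x = 0 := fun x hx => by
    show Ideal.Quotient.mk (J ^ 2) ((τ ^ n) x) = 0
    rw [Ideal.Quotient.eq_zero_iff_mem]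
    have h := hiter n (Ideal.mem_map_of_mem _ (show x ∈ J from hx))
    rwa [hIPn, Submodule.bot_mul, sup_bot_eq] at h
  have hπn : ∀ k x, π ((τ ^ k) x) = π x := by
    intro k
    induction k with
    | zero => intro x; rfl
    | succ k ih =>
      intro x
      rw [pow_succ', AlgHom.mul_apply, ← AlgHom.comp_apply, hπτ, ih]
  let sec : S →ₐ[R] P ⧸ J ^ 2 := AlgHom.liftOfSurjective π hπ f hf
  refine Algebra.FormallySmooth.of_comp_surjective fun E _ _ K' hK' v => ?_
  choose l hl using fun s => Ideal.Quotient.mk_surjective (v s)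
  let F : P →ₐ[R] E := MvPolynomial.aeval l
  have hFv : (Ideal.Quotient.mkₐ R K').comp F = v.comp π := MvPolynomial.algHom_ext fun s => by
    simp [F, π, hl]
  have hFJ : J ^ 2 ≤ RingHom.ker F := by
    refine Ideal.map_eq_bot_iff_le_ker _ |>.1 (le_bot_iff.1 ?_)
    rw [Ideal.map_pow, ← hK']
    refine pow_le_pow_left' ?_ 2
    rw [Ideal.map_le_iff_le_comap]
    intro x hx
    rw [Ideal.mem_comap, ← Ideal.Quotient.eq_zero_iff_mem]
    show ((Ideal.Quotient.mkₐ R K').comp F) x = 0
    rw [hFv, AlgHom.comp_apply, show π x = 0 from hx, map_zero]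
  refine ⟨(Ideal.Quotient.liftₐ _ F fun x hx => hFJ hx).comp sec, AlgHom.ext fun s => ?_⟩
  obtain ⟨x, rfl⟩ := hπ s
  rw [AlgHom.comp_apply, AlgHom.comp_apply, AlgHom.liftOfSurjective_apply]
  show ((Ideal.Quotient.mkₐ R K').comp F) ((τ ^ n) x) = _
  rw [hFv, AlgHom.comp_apply, hπn]

end Groth.Agent.CAlgFS
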