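import Mathlib
import Groth.Agent.CAlgFS.FlatFibre
import Groth.Agent.S4541
import Groth.Agent.PBasis.Separable

/-!
Flat algebras over `ℤ / p^n` with reduction a field are formally smooth.
-/

namespace Groth.Agent.CAlgFS

universe u v

theorem formallySmooth_of_flat_of_surjective {R : Type v} [CommRing R] {S : Type max u v}
    [CommRing S] [Algebra R S] [Module.Flat R S] {k K : Type max u v} [CommRing k] [CommRing K]
    [Algebra k K] [Algebra.FormallySmooth k K] (r : R →+* k) (hr : Function.Surjective r)
    (hnil : IsNilpotent (RingHom.ker r)) (g : S →+* K) (hg : Function.Surjective g)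
    (hker : RingHom.ker g ≤ (RingHom.ker r).map (algebraMap R S))
    (hcomm : g.comp (algebraMap R S) = (algebraMap k K).comp r) :
    Algebra.FormallySmooth R S := by
  refine formallySmooth_of_flat_of_fibre (RingHom.ker r) hnil fun T _ χ hχ K' hK' v hv => ?_
  letI : Algebra k T := (RingHom.liftOfSurjective r hr ⟨χ, hχ⟩).toAlgebra
  have hkT : ∀ a, algebraMap k T (r a) = χ a := fun a => RingHom.liftOfRightInverse_comp_apply _ _ _ _ a
  have hvker : RingHom.ker g ≤ RingHom.ker v := hker.trans (Ideal.map_le_iff_le_comap.2 fun a ha => by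
    rw [Ideal.mem_comap, RingHom.mem_ker, ← RingHom.comp_apply, hv, RingHom.comp_apply,
      show χ a = 0 from hχ ha, map_zero])
  let vb : K →+* T ⧸ K' := RingHom.liftOfSurjective g hg ⟨v, hvker⟩
  have hvb : ∀ x, vb (g x) = v x := fun x => RingHom.liftOfRightInverse_comp_apply _ _ _ _ x
  let va : K →ₐ[k] T ⧸ K' :=
    { vb with
      commutes' := fun c => by
        obtain ⟨a, rfl⟩ := hr c
        show vb _ = Ideal.Quotient.mk K' (algebraMap k T (r a))
        rw [hkT, ← RingHom.comp_apply (algebraMap k K), ← hcomm, RingHom.comp_apply, hvb]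
        exact RingHom.congr_fun hv a }
  obtain ⟨w, hw⟩ := Algebra.FormallySmooth.exists_lift K' ⟨2, hK'⟩ va
  refine ⟨w.toRingHom.comp g, RingHom.ext fun x => ?_, RingHom.ext fun a => ?_⟩
  · exact (AlgHom.congr_fun hw (g x)).trans (hvb x)
  · show w (g (algebraMap R S a)) = χ a
    rw [← RingHom.comp_apply g, hcomm, RingHom.comp_apply, w.commutes, hkT]

theorem flat_of_surjective {R R' : Type v} {S S' : Type u} [CommRing R] [CommRing R'] [CommRing S]
    [CommRing S'] [Algebra R S] [Algebra R' S'] [Module.Flat R S] (r : R →+* R')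
    (hr : Function.Surjective r) (g : S →+* S') (hg : Function.Surjective g)
    (hker : RingHom.ker g ≤ (RingHom.ker r).map (algebraMap R S))
    (hcomm : g.comp (algebraMap R S) = (algebraMap R' S').comp r) :
    Module.Flat R' S' := by
  refine Module.Flat.iff_forall_isTrivialRelation.2 fun {l f x} hfx => ?_
  choose f' hf' using fun i => hr (f i)
  choose x' hx' using fun i => hg (x i)
  have hsmul : ∀ (a : R) (y : S), g (a • y) = r a • g y := fun a y => by
    rw [Algebra.smul_def, map_mul, Algebra.smul_def, ← RingHom.comp_apply, hcomm]; rfl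
  have h0 : ∑ i, f' i • x' i ∈ (RingHom.ker r).map (algebraMap R S) := hker (by
    rw [RingHom.mem_ker, map_sum, ← hfx]
    exact Finset.sum_congr rfl fun i _ => by rw [hsmul, hf', hx'])
  obtain ⟨n, q, b, hb⟩ := Submodule.mem_span_set'.1 h0
  have hc : ∀ i, ∃ c : R, r c = 0 ∧ algebraMap R S c = (b i : S) := fun i =>
    let ⟨a, ha, h⟩ := (b i).2; ⟨a, ha, h⟩
  choose c hc0 hc using hc
  have hrel : ∑ i : Fin l ⊕ Fin n, Sum.elim f' (fun i => - c i) i • Sum.elim x' q i = 0 := by
    rw [Fintype.sum_sum_type]
    simp only [Sum.elim_inl, Sum.elim_inr, neg_smul, Finset.sum_neg_distrib]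
    rw [← sub_eq_add_neg, sub_eq_zero, ← hb]
    exact Finset.sum_congr rfl fun i _ => by rw [smul_eq_mul, ← hc, Algebra.smul_def, mul_comm]
  obtain ⟨k, a, y, hy, ha⟩ := Module.Flat.isTrivialRelation_of_sum_smul_eq_zero
    (f := Sum.elim f' (fun i => - c i)) (x := Sum.elim x' q) hrel
  refine ⟨k, fun i j => r (a (.inl i) j), fun j => g (y j), fun i => ?_, fun j => ?_⟩
  · rw [← hx', show x' i = _ from hy (.inl i), map_sum]
    exact Finset.sum_congr rfl fun j _ => hsmul _ _
  · have h := congrArg r (ha j)
    rw [Fintype.sum_sum_type, map_add, map_sum, map_sum, map_zero] at h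
    simp only [Sum.elim_inl, Sum.elim_inr, map_mul, map_neg, hc0, neg_zero, zero_mul,
      Finset.sum_const_zero, add_zero, hf'] at h
    exact h

theorem formallySmooth_field_charP (p : ℕ) [Fact p.Prime] (P K : Type u) [Field P] [CharP P p]
    [PerfectRing P p] [Field K] [CharP K p] [Algebra P K] : Algebra.FormallySmooth P K := by
  obtain ⟨S, hS⟩ := PBasis.exists_pBasis p P K
  exact (S4541.result p _ hS).1

end Groth.Agent.CAlgFS
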